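import Cfsg.Agent.MonsterP.NodeSp1a
import Cfsg.Agent.MonsterP.SpLit1a
import Cfsg.Agent.MonsterP.SpLit1b

/-!
# The spider relation: kernel computation, part 1, piece 2 of 3
(imports the previous piece only to build one after the other)
-/

set_option autoImplicit false
set_option maxRecDepth 100000
set_option Elab.async false

namespace Cfsg.Agent.MonsterP.NodeSp1b

open Cfsg.Agent.MonsterX Cfsg.Agent.MonsterP.NodeSpBase

theorem chk : stW [43, 42, 43, 42, 14, 16, 17, 21, 22, 26, 32, 15, 19, 7, 2, 39, 41, 39, 36, 39, 36, 13, 14,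
    42, 39, 42, 39, 40, 39, 2, 7, 19, 1, 3, 4, 8, 10, 14, 16, 17, 18, 21, 22, 20, 17, 15, 13, 32, 31, 28, 25,
    43, 39]
    SpLit1a.L SpLit1b.L = true := by decide +kernel

end Cfsg.Agent.MonsterP.NodeSp1b
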