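import Cfsg.Agent.MonsterP.NodeSp2a
import Cfsg.Agent.MonsterP.SpLit2a
import Cfsg.Agent.MonsterP.SpLit2b

/-!
# The spider relation: kernel computation, part 2, piece 2 of 3
(imports the previous piece only to build one after the other)
-/

set_option autoImplicit false
set_option maxRecDepth 100000
set_option Elab.async false

namespace Cfsg.Agent.MonsterP.NodeSp2b

open Cfsg.Agent.MonsterX Cfsg.Agent.MonsterP.NodeSpBase

theorem chk : stW [39, 43, 39, 42, 42, 43, 42, 42, 42, 37, 37, 42, 14, 15, 18, 21, 22, 27, 30, 13, 15, 16,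
    18, 1, 3, 4, 8, 10, 14, 16, 17, 18, 21, 15, 32, 26, 22, 21, 17, 16, 14, 36, 37, 36, 37, 36, 44, 42, 42,
    44, 39, 37]
    SpLit2a.L SpLit2b.L = true := by decide +kernel

end Cfsg.Agent.MonsterP.NodeSp2b
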