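import Cfsg.Agent.MonsterP.NodeSp2a
import Cfsg.Agent.MonsterP.NodeSp2b
import Cfsg.Agent.MonsterP.NodeSp2c

/-!
# The spider relation: part 2 of the word
-/

set_option autoImplicit false

namespace Cfsg.Agent.MonsterP.NodeSp2

open Cfsg.Agent.MonsterX Cfsg.Agent.MonsterX.Conc Cfsg.Agent.MonsterX.Space Cfsg.Agent.MonsterP.NodeVec Cfsg.Agent.MonsterP.NodeSpBase

theorem eq : TL [12, 16, 2, 6] (vecV SpLit1.L) = vecV SpLit2.L :=
  st3_sound NodeSp2a.chk NodeSp2b.chk NodeSp2c.chk (by decide +kernel)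

end Cfsg.Agent.MonsterP.NodeSp2
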