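import Cfsg.Agent.MonsterP.NodeSp3a
import Cfsg.Agent.MonsterP.SpLit3a
import Cfsg.Agent.MonsterP.SpLit3b

/-!
# The spider relation: kernel computation, part 3, piece 2 of 3
(imports the previous piece only to build one after the other)
-/

set_option autoImplicit false
set_option maxRecDepth 100000
set_option Elab.async false

namespace Cfsg.Agent.MonsterP.NodeSp3b

open Cfsg.Agent.MonsterX Cfsg.Agent.MonsterP.NodeSpBase

theorem chk : stW [41, 39, 36, 39, 36, 13, 14, 42, 39, 42, 39, 40, 39, 2, 7, 19, 1, 3, 4, 8, 10, 14, 16, 17,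
    18, 21, 18, 16, 15, 13, 30, 27, 22, 21, 18, 15, 14, 36, 43, 43, 36, 36, 36, 37, 36, 36, 39, 37]
    SpLit3a.L SpLit3b.L = true := by decide +kernel

end Cfsg.Agent.MonsterP.NodeSp3b
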