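import Cfsg.Agent.MonsterP.NodeSp3b
import Cfsg.Agent.MonsterP.SpLit3b
import Cfsg.Agent.MonsterP.SpLit3

/-!
# The spider relation: kernel computation, part 3, piece 3 of 3
(imports the previous piece only to build one after the other)
-/

set_option autoImplicit false
set_option maxRecDepth 100000
set_option Elab.async false

namespace Cfsg.Agent.MonsterP.NodeSp3c

open Cfsg.Agent.MonsterX Cfsg.Agent.MonsterP.NodeSpBase

theorem chk : stW [39, 41, 39, 36, 39, 36, 13, 14, 42, 39, 42, 39, 40, 39, 43, 39, 42, 42, 43, 42, 42, 42,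
    37, 37, 42, 14, 15, 18, 21, 22, 27, 30, 13, 15, 16, 18, 0, 1, 3, 4, 8, 10, 15, 17, 19, 21, 23]
    SpLit3b.L SpLit3.L = true := by decide +kernel

end Cfsg.Agent.MonsterP.NodeSp3c
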