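import Cfsg.Agent.MonsterP.NodeSp3a
import Cfsg.Agent.MonsterP.NodeSp3b
import Cfsg.Agent.MonsterP.NodeSp3c

/-!
# The spider relation: part 3 of the word
-/

set_option autoImplicit false

namespace Cfsg.Agent.MonsterP.NodeSp3

open Cfsg.Agent.MonsterX Cfsg.Agent.MonsterX.Conc Cfsg.Agent.MonsterX.Space Cfsg.Agent.MonsterP.NodeVec Cfsg.Agent.MonsterP.NodeSpBase

theorem eq : TL [7, 0, 16, 12, 1] (vecV SpLit2.L) = vecV SpLit3.L :=
  st3_sound NodeSp3a.chk NodeSp3b.chk NodeSp3c.chk (by decide +kernel)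

end Cfsg.Agent.MonsterP.NodeSp3
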