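import Cfsg.Agent.MonsterP.NodeSp4b
import Cfsg.Agent.MonsterP.SpLit4b
import Cfsg.Agent.MonsterP.SpLit4

/-!
# The spider relation: kernel computation, part 4, piece 3 of 3
(imports the previous piece only to build one after the other)
-/

set_option autoImplicit false
set_option maxRecDepth 100000
set_option Elab.async false

namespace Cfsg.Agent.MonsterP.NodeSp4c

open Cfsg.Agent.MonsterX Cfsg.Agent.MonsterP.NodeSpBase

theorem chk : stW [37, 39, 41, 39, 36, 39, 36, 13, 14, 42, 39, 42, 39, 40, 39, 43, 39, 37, 25, 28, 31, 32,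
    13, 15, 17, 20, 22, 0, 1, 3, 4, 8, 10, 18, 19, 20]
    SpLit4b.L SpLit4.L = true := by decide +kernel

end Cfsg.Agent.MonsterP.NodeSp4c
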