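import Cfsg.Agent.MonsterP.NodeSp4a
import Cfsg.Agent.MonsterP.NodeSp4b
import Cfsg.Agent.MonsterP.NodeSp4c

/-!
# The spider relation: part 4 of the word
-/

set_option autoImplicit false

namespace Cfsg.Agent.MonsterP.NodeSp4

open Cfsg.Agent.MonsterX Cfsg.Agent.MonsterX.Conc Cfsg.Agent.MonsterX.Space Cfsg.Agent.MonsterP.NodeVec Cfsg.Agent.MonsterP.NodeSpBase

theorem eq : TL [2, 16, 7, 11] (vecV SpLit3.L) = vecV SpLit4.L :=
  st3_sound NodeSp4a.chk NodeSp4b.chk NodeSp4c.chk (by decide +kernel)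

end Cfsg.Agent.MonsterP.NodeSp4
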