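import Cfsg.Agent.MonsterP.NodeSp5a
import Cfsg.Agent.MonsterP.NodeSp5b
import Cfsg.Agent.MonsterP.NodeSp5c

/-!
# The spider relation: part 5 of the word
-/

set_option autoImplicit false

namespace Cfsg.Agent.MonsterP.NodeSp5

open Cfsg.Agent.MonsterX Cfsg.Agent.MonsterX.Conc Cfsg.Agent.MonsterX.Space Cfsg.Agent.MonsterP.NodeVec Cfsg.Agent.MonsterP.NodeSpBase

theorem eq : TL [12, 6, 16, 7, 16] (vecV SpLit4.L) = vecV SpLit5.L :=
  st3_sound NodeSp5a.chk NodeSp5b.chk NodeSp5c.chk (by decide +kernel)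

end Cfsg.Agent.MonsterP.NodeSp5
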