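import Cfsg.Agent.MonsterP.NodeSp6a
import Cfsg.Agent.MonsterP.SpLit6a
import Cfsg.Agent.MonsterP.SpLit6b

/-!
# The spider relation: kernel computation, part 6, piece 2 of 3
(imports the previous piece only to build one after the other)
-/

set_option autoImplicit false
set_option maxRecDepth 100000
set_option Elab.async false

namespace Cfsg.Agent.MonsterP.NodeSp6b

open Cfsg.Agent.MonsterX Cfsg.Agent.MonsterP.NodeSpBase

theorem chk : stW [42, 39, 40, 39, 43, 39, 38, 36, 36, 38, 42, 43, 42, 43, 42, 14, 16, 17, 21, 22, 26, 32,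
    15, 0, 1, 3, 4, 8, 10, 18, 19, 20, 0, 1, 3, 4, 8, 10, 15, 17, 19, 21, 23, 1, 3, 4, 8, 10, 14, 16, 17, 18,
    21, 18, 16, 15, 13, 30, 27, 22, 21, 18, 15, 14, 36, 43, 43, 36, 36]
    SpLit6a.L SpLit6b.L = true := by decide +kernel

end Cfsg.Agent.MonsterP.NodeSp6b
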