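import Cfsg.Agent.MonsterP.NodeSp5
import Cfsg.Agent.MonsterP.SpLit5
import Cfsg.Agent.MonsterP.SpLit6a

/-!
# The spider relation: kernel computation, part 6, piece 1 of 3
(imports the previous piece only to build one after the other)
-/

set_option autoImplicit false
set_option maxRecDepth 100000
set_option Elab.async false

namespace Cfsg.Agent.MonsterP.NodeSp6a

open Cfsg.Agent.MonsterX Cfsg.Agent.MonsterP.NodeSpBase

theorem chk : stW [15, 32, 26, 22, 21, 17, 16, 14, 36, 37, 36, 37, 36, 44, 42, 42, 44, 39, 37, 39, 41, 39,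
    36, 39, 36, 13, 14, 42, 39]
    SpLit5.L SpLit6a.L = true := by decide +kernel

end Cfsg.Agent.MonsterP.NodeSp6a
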