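import Cfsg.Agent.MonsterP.NodeVec

/-!
# The spider relation: form of the kernel checks
-/

set_option autoImplicit false

namespace Cfsg.Agent.MonsterP.NodeSpBase

open Cfsg.Agent.Monster.VecEngine Cfsg.Agent.Monster.VecSpace Cfsg.Agent.MonsterX.Space
open Cfsg.Agent.MonsterX Cfsg.Agent.MonsterX.Conc Cfsg.Agent.MonsterX.InstData Cfsg.Agent.MonsterP.NodeVec

/-- Kernel check: the product of the involutions of `l` (the first one acts first) maps the planes `x` to `y`. -/
noncomputable def stC (l : List ℕ) (x y : Pl) : Bool :=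
  check (CertVec.dec ProgTable.prog (actL [] l)) x [] y

theorem stC_sound {l : List ℕ} {x y : Pl} (h : stC l x y = true) : TL l (vecV x) = vecV y := by
  unfold stC at h
  rw [CertVec.dec_eq] at h
  have h1 : W (actL [] l) (vecV x) = W [] (vecV y) := W_eq_of_check (w₂ := []) h
  rw [W_nil] at h1
  exact h1

/-- Kernel check: the word `w` (the first letter acts first) maps the planes `x` to `y`. -/
noncomputable def stW (w : List ℕ) (x y : Pl) : Bool :=
  check (CertVec.dec ProgTable.prog w) x [] y

theorem stW_sound {w : List ℕ} {x y : Pl} (h : stW w x y = true) : W w (vecV x) = vecV y := by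
  unfold stW at h
  rw [CertVec.dec_eq] at h
  have h1 : W w (vecV x) = W [] (vecV y) := W_eq_of_check (w₂ := []) h
  rw [W_nil] at h1
  exact h1

/-- A product of involutions in three pieces. -/
theorem st3_sound {l w₁ w₂ w₃ : List ℕ} {x₀ x₁ x₂ x₃ : Pl} (h₁ : stW w₁ x₀ x₁ = true) (h₂ : stW w₂ x₁ x₂ = true)
    (h₃ : stW w₃ x₂ x₃ = true) (h : actL [] l = w₁ ++ (w₂ ++ w₃)) : TL l (vecV x₀) = vecV x₃ := by
  unfold TL
  rw [h, W_append, W_append, LinearEquiv.mul_apply, LinearEquiv.mul_apply, stW_sound h₁, stW_sound h₂, stW_sound h₃]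

end Cfsg.Agent.MonsterP.NodeSpBase
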