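import Cfsg.Agent.MonsterP.NodeSp1
import Cfsg.Agent.MonsterP.NodeSp2
import Cfsg.Agent.MonsterP.NodeSp3
import Cfsg.Agent.MonsterP.NodeSp4
import Cfsg.Agent.MonsterP.NodeSp5
import Cfsg.Agent.MonsterP.NodeSp6
import Cfsg.Agent.MonsterP.NodeQ
import Cfsg.Agent.MonsterP.NodeSpiderCox

/-!
# The relation `rW` in the model
-/

set_option autoImplicit false

namespace Cfsg.Agent.MonsterP.NodeSpider

open Cfsg.Agent.Monster.VecEngine Cfsg.Agent.Monster.VecSpace Cfsg.Agent.MonsterX.Space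
open Cfsg.Agent.MonsterX Cfsg.Agent.MonsterX.Conc Cfsg.Agent.MonsterX.InstData
open Cfsg.Agent.MonsterP.NodeData Cfsg.Agent.MonsterP.NodeVec Cfsg.Agent.MonsterP.NodeSpBase
open Cfsg.Agent.Bimonster.Tits Cfsg.Agent.MonsterP.NodeSpiderCox

theorem TL_eq_ev (l : List ℕ) : TL l = ev T l.reverse := by
  induction l with
  | nil => rw [TL_nil]; rfl
  | cons i l ih => rw [TL_cons, ih, List.reverse_cons, ev_append, ev_cons, ev_nil, mul_one]

theorem rW_eq : rW = [2, 11, 1, 16, 12].reverse ++ ([12, 6, 16, 7, 16].reverse ++ ([2, 16, 7, 11].reverse ++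
    ([7, 0, 16, 12, 1].reverse ++ ([12, 16, 2, 6].reverse ++ [2, 0, 16, 7, 11].reverse)))) := by
  decide +kernel

theorem fix : ev T rW (vecV (up 10 BaseVec.vB)) = vecV (up 10 BaseVec.vB) := by
  rw [rW_eq, ev_append, ev_append, ev_append, ev_append, ev_append, ← TL_eq_ev, ← TL_eq_ev, ← TL_eq_ev, ← TL_eq_ev,
    ← TL_eq_ev, ← TL_eq_ev]
  simp only [LinearEquiv.mul_apply]
  rw [NodeSp1.eq, NodeSp2.eq, NodeSp3.eq, NodeSp4.eq, NodeSp5.eq, NodeSp6.eq]

variable {K₀ : Type} [Group K₀]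

theorem ev_mem (P : BaseVec.Pack K₀) {w : List ℕ} (h : ∀ i ∈ w, i < 23) : ev T w ∈ G := by
  induction w with
  | nil => exact G.one_mem
  | cons i w ih =>
    rw [ev_cons]
    exact G.mul_mem (P.W_mem_G fun n hn => NodeQ.tw_lt i (h i (by simp)) n hn) (ih fun j hj => h j (by simp [hj]))

theorem rW_lt : ∀ i ∈ rW, i < 23 := by decide

/-- **The relation `rW` holds in the model.** -/
theorem rel (P : BaseVec.Pack K₀) : ev T rW = 1 := by
  refine P.eq_one (ev_mem P rW_lt) ?_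
  have h := fix
  rw [vecV_up, map_smul] at h
  exact smul_right_injective V (pow_ne_zero 10 (two_ne_zero : (2 : ℚ) ≠ 0)) h

/-- **The spider relation in the model.** -/
theorem spider (P : BaseVec.Pack K₀) (hc : Bimonster.CoxRel 14 T)
    (h4 : T 0 * T 16 * T 0 = T 11 * T 6 * T 1 * T 0 * T 1 * T 6 * T 11) : ev T Bimonster.spW ^ 10 = 1 :=
  spider_of hc h4 (rel P)

end Cfsg.Agent.MonsterP.NodeSpider
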